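import Groth.Agent.KoszulLib.FlatQuot
import Groth.Agent.KoszulLib.RelKinds
import Groth.Agent.KoszulLib.Kinds
import Groth.Agent.KoszulLib.SchKer
import Groth.Agent.InjFibre.SliceScheme
import Groth.Agent.WeakAssLib.Basic

/-!
# Relatively quasi-regular immersions into flat schemes are regular
-/

universe u

set_option autoImplicit false
set_option linter.style.haveILetI false
set_option backward.isDefEq.respectTransparency false

open CategoryTheory Limits AlgebraicGeometry RingTheory.Sequence TensorProduct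

namespace Groth.Agent.RelQuasi

/-- A quasi-regular sequence with flat quotient in a flat algebra is `SeqAt` on its zero locus. -/
theorem seqAt_of_quasi {R P : Type u} [CommRing R] [CommRing P] [Algebra R P] [Module.Flat R P]
    [Algebra.FinitePresentation R P] {n : ℕ} (f : Fin n → P) (hq : CAlgX.IsQuasiRegular f)
    [Module.Flat R (P ⧸ Ideal.span (Set.range f))] (q : PrimeSpectrum P) (hf : ∀ i, f i ∈ q.asIdeal) :
    InjFibre.SeqAt R (List.ofFn f) q := by
  let S' := Localization.AtPrime q.asIdeal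
  haveI : Module.Flat P S' := IsLocalization.flat S' q.asIdeal.primeCompl
  haveI : Module.Flat R S' := Module.Flat.trans R P S'
  haveI : Module.Flat R (S' ⧸ Ideal.span (Set.range (algebraMap P S' ∘ f))) :=
    KoszulLib.flat_base_quot (Ideal.span (Set.range f)) (by rw [Ideal.map_span, ← Set.range_comp])
  let p := q.asIdeal.comap (algebraMap R P)
  have h1 := KoszulLib.quasi_baseChange (A := R) (R ⧸ p) (KoszulLib.quasi_flat (B := S') hq)
  let e : (R ⧸ p) ⊗[R] S' ≃+* S' ⧸ p.map (algebraMap R S') :=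
    ((Algebra.TensorProduct.comm R (R ⧸ p) S').toRingEquiv).trans
      (Algebra.TensorProduct.quotIdealMapEquivTensorQuot S' p).symm.toRingEquiv
  have h2 := KoszulLib.isQuasiRegular_map_equiv e h1
  haveI := KoszulLib.isNoetherianRing_fibre (S' := S') q.asIdeal p rfl
  have hq' : IsWeaklyRegular (S' ⧸ p.map (algebraMap R S'))
      (List.ofFn fun i => Ideal.Quotient.mk (p.map (algebraMap R S')) (algebraMap P S' (f i))) := by
    refine Groth.Agent.S5803.result _ _ _ (fun i => ?_) ?_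
    · rw [Ring.jacobson_eq_sInf_isMaximal, Submodule.mem_sInf]
      intro m hm
      haveI : Ideal.IsMaximal m := hm
      have hmax : (Ideal.comap (Ideal.Quotient.mk (p.map (algebraMap R S'))) m).IsMaximal :=
        Ideal.comap_isMaximal_of_surjective _ Ideal.Quotient.mk_surjective
      show algebraMap P S' (f i) ∈ Ideal.comap (Ideal.Quotient.mk (p.map (algebraMap R S'))) m
      rw [IsLocalRing.eq_maximalIdeal hmax]
      exact (IsLocalization.AtPrime.to_map_mem_maximal_iff S' q.asIdeal _).mpr (hf i)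
    · convert h2 using 1
      funext i
      symm
      show (Algebra.TensorProduct.quotIdealMapEquivTensorQuot S' p).symm
        (algebraMap P S' (f i) ⊗ₜ[R] (1 : R ⧸ p)) = _
      rw [AlgEquiv.symm_apply_eq, Algebra.TensorProduct.quotIdealMapEquivTensorQuot_mk]
  refine InjFibre.seqAt_of_fibre q S' (List.ofFn f) ?_
  let φ : S' →+* S' ⧸ p.map (algebraMap R S') := Ideal.Quotient.mk _
  have hl : (List.ofFn fun i => φ (algebraMap P S' (f i))) = ((List.ofFn f).map (algebraMap P S')).map φ := by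
    simp [List.map_ofFn, Function.comp_def]
  have h3 : IsWeaklyRegular (S' ⧸ p.map (algebraMap R S')) (((List.ofFn f).map (algebraMap P S')).map φ) := hl ▸ hq'
  exact (isWeaklyRegular_map_algebraMap_iff (S' ⧸ p.map (algebraMap R S')) _ _).mp h3

variable {Z X S : Scheme.{u}}

/-- A relatively quasi-regular immersion into a flat finitely presented scheme is regular. -/
theorem isRegularImmersion_regular (f : X ⟶ S) [Flat f] [LocallyOfFinitePresentation f] (i : Z ⟶ X)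
    (hi : RegImm.IsRelRegularImmersion RegImm.Kind.quasi f i) : RegImm.IsRegularImmersion RegImm.Kind.regular i := by
  obtain ⟨⟨himm, hreg⟩, hflat⟩ := hi
  refine ⟨himm, fun z => ?_⟩
  obtain ⟨U, hz, hc, rs, hrs, hker⟩ := hreg z
  obtain ⟨_, ⟨V, hV, rfl⟩, hzV, -⟩ :=
    S.isBasis_affineOpens.exists_subset_of_mem_open (Set.mem_univ (f (i z))) isOpen_univ
  obtain ⟨a, ha, hza⟩ := U.2.exists_basicOpen_le (V := f ⁻¹ᵁ V) ⟨i z, hzV⟩ hz
  obtain ⟨U₁, hU₁⟩ : ∃ U₁ : X.affineOpens, U₁.1 = X.basicOpen a := ⟨X.affineBasicOpen a, rfl⟩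
  have hle : U₁.1 ≤ U.1 := hU₁.le.trans (X.basicOpen_le a)
  have hUV : U₁.1 ≤ f ⁻¹ᵁ V := hU₁.le.trans ha
  have hzU₁ : i z ∈ U₁.1 := hU₁ ▸ hza
  obtain ⟨hc₁, hker₁⟩ := KoszulLib.ker_app_of_le i U hc U₁ hle
  letI : Algebra Γ(X, U.1) Γ(X, U₁.1) := (X.presheaf.map (homOfLE hle).op).hom.toAlgebra
  haveI : IsLocalization.Away a Γ(X, U₁.1) := U.2.isLocalization_of_eq_basicOpen a (homOfLE hle) hU₁
  haveI : Module.Flat Γ(X, U.1) Γ(X, U₁.1) := IsLocalization.flat _ (Submonoid.powers a)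
  let rs₁ := rs.map (algebraMap Γ(X, U.1) Γ(X, U₁.1))
  have hrs₁ : RegImm.Kind.quasi.Seq Γ(X, U₁.1) rs₁ := KoszulLib.seq_flat .quasi (fun h => by simp at h) hrs
  have hk₁ : RingHom.ker (i.app U₁.1).hom = Ideal.ofList rs₁ := by
    rw [hker₁, hker]; exact Ideal.map_ofList _ _
  letI : Algebra Γ(S, V) Γ(X, U₁.1) := (f.appLE V U₁.1 hUV).hom.toAlgebra
  haveI : Algebra.FinitePresentation Γ(S, V) Γ(X, U₁.1) := f.finitePresentation_appLE hV U₁.2 hUV
  haveI : Module.Flat Γ(S, V) Γ(X, U₁.1) := f.flat_appLE hV U₁.2 hUV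
  have hspan : Ideal.span (Set.range rs₁.get) = Ideal.ofList rs₁ := by
    rw [Ideal.ofList]; congr 1; ext x; simp [List.mem_iff_get]
  haveI : Module.Flat Γ(S, V) (Γ(X, U₁.1) ⧸ Ideal.span (Set.range rs₁.get)) := by
    have e : i ⁻¹ᵁ U₁.1 ≤ (i ≫ f) ⁻¹ᵁ V := fun z hz => hUV hz
    letI := ((i ≫ f).appLE V (i ⁻¹ᵁ U₁.1) e).hom.toAlgebra
    haveI : Module.Flat Γ(S, V) Γ(Z, i ⁻¹ᵁ U₁.1) :=
      HasRingHomProperty.appLE @Flat (i ≫ f) hflat ⟨V, hV⟩ ⟨_, KoszulLib.isAffineOpen_preimage i hc₁⟩ e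
    let φ : Γ(X, U₁.1) →ₐ[Γ(S, V)] Γ(Z, i ⁻¹ᵁ U₁.1) :=
      { (i.app U₁.1).hom with
        commutes' := fun r => by
          show (i.app U₁.1).hom ((f.appLE V U₁.1 hUV).hom r) = ((i ≫ f).appLE V (i ⁻¹ᵁ U₁.1) e).hom r
          rw [Scheme.Hom.app_eq_appLE, ← CommRingCat.comp_apply, Scheme.Hom.appLE_comp_appLE] }
    rw [hspan, ← hk₁]
    exact Module.Flat.of_linearEquiv
      (Ideal.quotientKerAlgEquivOfSurjective (f := φ) (KoszulLib.app_surjective i hc₁)).toLinearEquiv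
  let q := U₁.2.primeIdealOf ⟨i z, hzU₁⟩
  have hmem : ∀ r ∈ rs₁, r ∈ q.asIdeal := fun r hr => by
    by_contra hn
    have hb : i z ∈ X.basicOpen r := (WeakAssLib.mem_primeIdealOf U₁.2 hzU₁ r).2 hn
    have h0 : (i.app U₁.1).hom r = 0 := RingHom.mem_ker.1 (hk₁ ▸ Ideal.subset_span hr)
    have hb' : z ∈ i ⁻¹ᵁ X.basicOpen r := hb
    rw [Scheme.preimage_basicOpen, show (i.app U₁.1) r = 0 from h0, Scheme.basicOpen_zero] at hb'
    exact hb'
  have hseq := seqAt_of_quasi (R := Γ(S, V)) rs₁.get hrs₁ q (fun j => hmem _ (List.get_mem rs₁ j))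
  rw [List.ofFn_get] at hseq
  obtain ⟨t, htq, ht⟩ := KoszulLib.exists_away_of_seqAt rs₁ q hseq
  let U₂ : X.affineOpens := ⟨X.basicOpen t, U₁.2.basicOpen t⟩
  have hle₂ : U₂.1 ≤ U₁.1 := X.basicOpen_le t
  have hzU₂ : i z ∈ U₂.1 := (WeakAssLib.mem_primeIdealOf U₁.2 hzU₁ t).2 htq
  obtain ⟨hc₂, hker₂⟩ := KoszulLib.ker_app_of_le i U₁ hc₁ U₂ hle₂
  let rs₂ := rs₁.map (X.presheaf.map (homOfLE hle₂).op).hom
  have hk₂ : RingHom.ker (i.app U₂.1).hom = Ideal.ofList rs₂ := by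
    rw [hker₂, hk₁]; exact Ideal.map_ofList _ _
  refine ⟨U₂, hzU₂, hc₂, rs₂, ⟨?_, ?_⟩, hk₂⟩
  · let e₂ : U₂.1 ≤ f ⁻¹ᵁ V := hle₂.trans hUV
    letI : Algebra Γ(S, V) Γ(X, U₂.1) := (f.appLE V U₂.1 e₂).hom.toAlgebra
    refine (InjFibre.isWeaklyRegular_of_seqAt (R := Γ(S, V)) rs₂ fun p => ?_).1
    obtain ⟨hy, hyp⟩ := InjFibre.primeIdealOf_fromSpec U₂.2 p
    have h2 := (InjFibre.seqAt_chart f hV U₁.2 hUV (U₂.2.fromSpec p) (hle₂ hy) rs₁).1
      (ht _ ((WeakAssLib.mem_primeIdealOf U₁.2 (hle₂ hy) t).1 hy))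
    rw [← hyp, InjFibre.seqAt_chart f hV U₂.2 e₂ (U₂.2.fromSpec p) hy rs₂]
    have hl : rs₂.map (X.presheaf.germ U₂.1 _ hy).hom = rs₁.map (X.presheaf.germ U₁.1 _ (hle₂ hy)).hom := by
      rw [List.map_map]
      exact List.map_congr_left fun a _ => TopCat.Presheaf.germ_res_apply _ _ _ _ _
    rw [hl, show rs₂.length = rs₁.length from List.length_map _]
    exact h2
  · intro htop
    have h1 : RingHom.ker (i.app U₂.1).hom = ⊤ := by
      rw [hk₂]; simpa [smul_eq_mul, Ideal.mul_top] using htop.symm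
    haveI : Nonempty ↥(i ⁻¹ᵁ U₂.1) := ⟨⟨z, hzU₂⟩⟩
    exact RingHom.ker_ne_top _ h1

end Groth.Agent.RelQuasi
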