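import Groth.Agent.FlatAdic.Basic
import Groth.Agent.KoszulLib.QuasiBC
import Groth.Agent.KoszulLib.FlatKinds
import Groth.Agent.KoszulLib.SchStalk
import Groth.Prelude.Def_RegImm

/-!
# Flatness along a relatively quasi-regular immersion at noetherian points
-/

universe u

set_option autoImplicit false
set_option linter.style.haveILetI false
set_option backward.isDefEq.respectTransparency false

open CategoryTheory AlgebraicGeometry IsLocalRing

namespace Groth.Agent.RelQuasi

/-- Flat quotient by a quasi-regular sequence in the radical of a noetherian algebra: flat. -/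
theorem flat_of_quasi {A B : Type u} [CommRing A] [CommRing B] [IsNoetherianRing B] [Algebra A B] {n : ℕ}
    (f : Fin n → B) (hf : CAlgX.IsQuasiRegular f) (hJ : Ideal.span (Set.range f) ≤ Ideal.jacobson ⊥)
    [Module.Flat A (B ⧸ Ideal.span (Set.range f))] : Module.Flat A B := by
  refine FlatAdic.flat_of_flat_quotient (Ideal.span (Set.range f)) hJ B fun m => ?_
  haveI := KoszulLib.flat_quotient_pow (A := A) hf (m + 1)
  exact Module.Flat.of_linearEquiv
    ((Submodule.quotEquivOfEq (Ideal.span (Set.range f) ^ (m + 1) • (⊤ : Submodule B B)) (Ideal.span (Set.range f) ^ (m + 1))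
      (by rw [smul_eq_mul, Ideal.mul_top])).restrictScalars A)

theorem flat_stalkMap {Z X S : Scheme.{u}} (f : X ⟶ S) (i : Z ⟶ X)
    (hi : RegImm.IsRelRegularImmersion RegImm.Kind.quasi f i) (z : ↥Z) [IsNoetherianRing ↑(X.presheaf.stalk (i z))] :
    (f.stalkMap (i z)).hom.Flat := by
  obtain ⟨⟨himm, hreg⟩, hflat⟩ := hi
  obtain ⟨U, hz, hc, rs, hrs, hker⟩ := hreg z
  let B := X.presheaf.stalk (i z)
  letI : Algebra (S.presheaf.stalk (f (i z))) B := (f.stalkMap (i z)).hom.toAlgebra
  letI : Algebra (S.presheaf.stalk (f (i z))) (Z.presheaf.stalk z) :=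
    ((i.stalkMap z).hom.comp (f.stalkMap (i z)).hom).toAlgebra
  haveI : Module.Flat (S.presheaf.stalk (f (i z))) (Z.presheaf.stalk z) := by
    have h : ((i.stalkMap z).hom.comp (f.stalkMap (i z)).hom).Flat := by
      rw [← CommRingCat.hom_comp, ← Scheme.Hom.stalkMap_comp]
      exact Flat.stalkMap (i ≫ f) z
    exact h
  letI := TopCat.Presheaf.algebra_section_stalk X.presheaf (⟨i z, hz⟩ : U.1)
  haveI : IsLocalization.AtPrime B (U.2.primeIdealOf ⟨i z, hz⟩).asIdeal := U.2.isLocalization_stalk ⟨i z, hz⟩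
  haveI : Module.Flat Γ(X, U.1) B := IsLocalization.flat B (U.2.primeIdealOf ⟨i z, hz⟩).asIdeal.primeCompl
  let g : Fin rs.length → B := algebraMap Γ(X, U.1) B ∘ rs.get
  have hk : RingHom.ker (i.stalkMap z).hom = Ideal.span (Set.range g) := by
    rw [KoszulLib.ker_stalkMap_eq i z U hc hz, hker, Set.range_comp, ← Ideal.map_span]
    congr 1
    rw [Ideal.ofList]; congr 1; ext x; simp [List.mem_iff_get]
  have hsurj : Function.Surjective (i.stalkMap z).hom := i.stalkMap_surjective z
  let φ : B →ₐ[S.presheaf.stalk (f (i z))] Z.presheaf.stalk z := { (i.stalkMap z).hom with commutes' := fun a => rfl }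
  haveI : Module.Flat (S.presheaf.stalk (f (i z))) (B ⧸ Ideal.span (Set.range g)) :=
    Module.Flat.of_linearEquiv ((Ideal.quotientEquivAlgOfEq _ hk.symm).trans
      (Ideal.quotientKerAlgEquivOfSurjective (f := φ) hsurj)).toLinearEquiv
  refine flat_of_quasi g (KoszulLib.quasi_flat hrs) ?_
  rw [← hk]
  exact (le_maximalIdeal (RingHom.ker_ne_top _)).trans (IsLocalRing.maximalIdeal_le_jacobson ⊥)

end Groth.Agent.RelQuasi
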